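import Cfsg.Agent.Fusion.Extraspecial

/-!
# Extraspecial 2-groups: double centralisers and automorphisms of order two
-/

set_option autoImplicit false
set_option linter.unusedSectionVars false

open Cfsg Subgroup
open scoped commutatorElement

namespace Cfsg.Agent.ExtraPair

variable {E : Type*} [Group E] [Finite E]

/-- A subgroup containing the centre is an intersection of subgroups of index two. -/
theorem exists_index_two (h : IsExtraspecial 2 E) {H : Subgroup E} (hZ : center E ≤ H) {x : E}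
    (hx : x ∉ H) : ∃ M : Subgroup E, H ≤ M ∧ x ∉ M ∧ M.index = 2 := by
  haveI := Fact.mk Nat.prime_two
  obtain ⟨M, -, ⟨hHM, hxM⟩, hmax⟩ := Finite.exists_le_maximal
    (p := fun M : Subgroup E => H ≤ M ∧ x ∉ M) ⟨le_rfl, hx⟩
  refine ⟨M, hHM, hxM, index_eq_two_iff.2 ⟨x, fun b => ?_⟩⟩
  by_cases hb : b ∈ M
  · refine Or.inr ⟨hb, fun hbx => hxM ?_⟩
    have := mul_mem (inv_mem hb) hbx
    rwa [inv_mul_cancel_left] at this
  refine Or.inl ⟨?_, hb⟩
  haveI : M.Normal := Subgroup.Normal.of_commutator_le E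
    ((Fusion.es_commutator_le h).trans (hZ.trans hHM))
  have hbb : b * b ∈ M := hHM (hZ (by rw [← sq]; exact Fusion.es_pow_mem_center h b))
  by_contra hbx
  have hxs : x ∈ M ⊔ zpowers b := by
    by_contra hxs
    exact hb (hmax ⟨hHM.trans le_sup_left, hxs⟩ le_sup_left
      (le_sup_right (a := M) (mem_zpowers b)))
  obtain ⟨m, hm, y, hy, rfl⟩ := mem_sup_of_normal_left.1 hxs
  obtain ⟨k, rfl⟩ := mem_zpowers_iff.1 hy
  have hev : ∀ j : ℤ, b ^ (2 * j) ∈ M := fun j => by
    rw [zpow_mul, zpow_two]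
    exact zpow_mem hbb j
  rcases Int.even_or_odd' k with ⟨j, rfl | rfl⟩
  · exact hxM (mul_mem hm (hev j))
  · refine hbx ?_
    rw [zpow_add_one, show b * (m * (b ^ (2 * j) * b)) = b * (m * b ^ (2 * j)) * b⁻¹ * (b * b) by group]
    exact mul_mem (Normal.conj_mem inferInstance _ (mul_mem hm (hev j)) b) hbb

/-- The double centraliser of a subgroup containing the centre is itself. -/
theorem centralizer_centralizer_le (h : IsExtraspecial 2 E) {H : Subgroup E} (hZ : center E ≤ H) :
    centralizer ((centralizer (H : Set E) : Subgroup E) : Set E) ≤ H := by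
  classical
  intro x hx
  by_contra hxH
  haveI := Fact.mk Nat.prime_two
  obtain ⟨M, hHM, hxM, hidx⟩ := exists_index_two h hZ hxH
  obtain ⟨z₀, hz₀, hz₀1⟩ := (ne_bot_iff_exists_ne_one (H := center E)).1 (fun hb => by
    have := h.2; rw [hb, card_bot] at this; omega) |> fun ⟨z, hz⟩ => (⟨(z : E), z.2, fun e =>
      hz (Subtype.ext e)⟩ : ∃ z : E, z ∈ center E ∧ z ≠ 1)
  have hz2 : z₀ * z₀ = 1 := by rw [← sq]; exact Fusion.es_center_pow h hz₀
  let f : E →* E := MonoidHom.mk' (fun y => if y ∈ M then 1 else z₀) fun a b => by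
    by_cases ha : a ∈ M <;> by_cases hb : b ∈ M <;>
      simp [mul_mem_iff_of_index_two hidx, ha, hb, hz2]
  obtain ⟨e, -, he⟩ := Fusion.es_hom_eq_commutator h f
    (fun y => by show (if y ∈ M then (1 : E) else z₀) ∈ center E; split_ifs <;> simp [hz₀])
    (fun z hz => if_pos (hHM (hZ hz))) ⊤ le_top Fusion.es_top_nondeg
  have heH : e ∈ centralizer (H : Set E) := mem_centralizer_iff.2 fun y hy => by
    have h1 : ⁅e, y⁆ = 1 := (he y (mem_top y)).symm.trans (if_pos (hHM hy))
    exact (commutatorElement_eq_one_iff_mul_comm.1 h1).symm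
  refine hz₀1 ((if_neg hxM).symm.trans ((he x (mem_top x)).trans ?_))
  exact commutatorElement_eq_one_iff_mul_comm.2 (mem_centralizer_iff.1 hx e heH)

/-- For an automorphism of order two: the group of all `φ q q⁻¹` is the centre of the preimage of
its fixed points modulo the centre. -/
theorem closure_eq_center (h : IsExtraspecial 2 E) (φ : E →* E) (hφ : ∀ y, φ (φ y) = y)
    (hne : ∃ y, φ y ≠ y) (x : E) :
    x ∈ closure (Set.range fun q => φ q * q⁻¹) ↔
      φ x * x⁻¹ ∈ center E ∧ ∀ q, φ q * q⁻¹ ∈ center E → q * x = x * q := by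
  haveI := Fact.mk Nat.prime_two
  have hle := Fusion.es_commutator_le h
  have hfix : ∀ c ∈ center E, φ c = c := by
    intro c hc
    by_cases h1 : c = 1
    · rw [h1, map_one]
    have hφc : φ c ∈ center E := mem_center_iff.2 fun g => by
      rw [← hφ g, ← map_mul, ← map_mul, mem_center_iff.1 hc]
    obtain ⟨k, hk⟩ := mem_zpowers_iff.1 ((Fusion.es_center_zpowers h hc h1).ge hφc)
    have h2 : c * c = 1 := by rw [← sq]; exact Fusion.es_center_pow h hc
    rcases Int.even_or_odd' k with ⟨j, rfl | rfl⟩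
    · rw [zpow_mul, zpow_two, h2, one_zpow] at hk
      exact absurd (by rw [← hφ c, ← hk, map_one]) h1
    · rwa [zpow_add_one, zpow_mul, zpow_two, h2, one_zpow, one_mul, eq_comm] at hk
  set w : E → E := fun q => φ q * q⁻¹ with hw
  have hφw : ∀ q, φ q = w q * q := fun q => (inv_mul_cancel_right _ _).symm
  have hwmul : ∀ a b, w (a * b) = w a * (a * w b * a⁻¹) := fun a b => by
    simp only [hw, map_mul]; group
  let Q₀ : Subgroup E :=
    { carrier := {q | w q ∈ center E}
      mul_mem' := fun {a b} ha hb => by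
        show w (a * b) ∈ center E
        rw [hwmul, mem_center_iff.1 hb a, mul_inv_cancel_right]
        exact mul_mem ha hb
      one_mem' := by show w 1 ∈ center E; simp [hw]
      inv_mem' := fun {a} ha => by
        show φ a⁻¹ * a⁻¹⁻¹ ∈ center E
        have e : φ a⁻¹ * a⁻¹⁻¹ = a⁻¹ * (w a)⁻¹ * a := by simp only [hw, map_inv]; group
        rw [e, mem_center_iff.1 (inv_mem ha) a⁻¹, inv_mul_cancel_right]
        exact inv_mem ha }
  have hval : ∀ q r, ⁅φ q, φ r⁆ = ⁅q, r⁆ := fun q r => by
    rw [← map_commutatorElement]; exact hfix _ (Fusion.es_commutator_mem h q r)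
  have hexp : ∀ q r, ⁅φ q, φ r⁆ = ⁅w q, w r⁆ * ⁅w q, r⁆ * (⁅q, w r⁆ * ⁅q, r⁆) := fun q r => by
    rw [hφw q, hφw r, Fusion.commutatorElement_mul_left_of_le_center hle (w q) q (w r * r),
      Fusion.commutatorElement_mul_right_of_le_center hle (w q) (w r) r,
      Fusion.commutatorElement_mul_right_of_le_center hle q (w r) r]
  have hcone : ∀ {c : E}, c ∈ center E → ∀ a : E, ⁅c, a⁆ = (1 : E) := fun {c} hc a =>
    commutatorElement_eq_one_iff_mul_comm.2 (mem_center_iff.1 hc a).symm
  have h3 : ∀ q ∈ Q₀, ∀ r, ⁅q, w r⁆ = 1 := fun q hq r => by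
    have := (hexp q r).symm.trans (hval q r)
    rw [hcone hq, hcone hq, one_mul, one_mul] at this
    exact mul_eq_right.1 this
  have h4 : ∀ r, w r ∈ Q₀ := fun r => by
    show φ (w r) * (w r)⁻¹ ∈ center E
    have e : φ (w r) = (w r)⁻¹ := by simp only [hw, map_mul, map_inv, hφ]; group
    rw [e, ← mul_inv_rev, ← sq]
    exact inv_mem (Fusion.es_pow_mem_center h _)
  have hHQ : closure (Set.range w) ≤ Q₀ := (closure_le _).2 (by rintro _ ⟨r, rfl⟩; exact h4 r)
  have hHc : closure (Set.range w) ≤ centralizer (Q₀ : Set E) := (closure_le _).2 (by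
    rintro _ ⟨r, rfl⟩
    exact mem_centralizer_iff.2 fun q hq => commutatorElement_eq_one_iff_mul_comm.1 (h3 q hq r))
  constructor
  · exact fun hx => ⟨hHQ hx, fun q hq => mem_centralizer_iff.1 (hHc hx) q hq⟩
  rintro ⟨hxQ, hxc⟩
  have hwm : ∀ r, w r ∈ closure (Set.range w) := fun r => subset_closure ⟨r, rfl⟩
  have hZ : center E ≤ closure (Set.range w) := by
    obtain ⟨r, hr⟩ := hne
    by_cases hc : w r ∈ center E
    · rw [← Fusion.es_center_zpowers h hc (fun e => hr (mul_inv_eq_one.1 e)), zpowers_le]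
      exact hwm r
    obtain ⟨q, hq⟩ : ∃ q, ⁅q, w r⁆ ≠ 1 := by
      by_contra hcon
      push Not at hcon
      exact hc (mem_center_iff.2 fun g => commutatorElement_eq_one_iff_mul_comm.1 (hcon g))
    rw [← Fusion.es_center_zpowers h (Fusion.es_commutator_mem h _ _) hq, zpowers_le,
      commutatorElement_def]
    have := mul_mem (inv_mem (hwm q)) (hwm (q * r))
    rw [hwmul, inv_mul_cancel_left] at this
    exact mul_mem this (inv_mem (hwm r))
  refine centralizer_centralizer_le h hZ (mem_centralizer_iff.2 fun q hq => hxc q ?_)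
  refine mem_center_iff.2 fun r => ?_
  have h7 : ∀ r, ⁅q, w r⁆ = 1 := fun r =>
    commutatorElement_eq_one_iff_mul_comm.2 (mem_centralizer_iff.1 hq _ (hwm r)).symm
  have := (hexp q r).symm.trans (hval q r)
  rw [h3 _ (h4 q) r, h7, one_mul, one_mul, mul_eq_right] at this
  exact (commutatorElement_eq_one_iff_mul_comm.1 this).symm

end Cfsg.Agent.ExtraPair
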